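import Mathlib.AlgebraicGeometry.Morphisms.UniversallyClosed
import Mathlib.AlgebraicGeometry.Morphisms.UniversallyInjective
import Mathlib.AlgebraicGeometry.Morphisms.UniversallyOpen
import Mathlib.AlgebraicGeometry.Morphisms.ClosedImmersion
import Mathlib.AlgebraicGeometry.Morphisms.QuasiSeparated
import Mathlib.AlgebraicGeometry.Morphisms.Separated

/-!
Cancellation lemmas for morphisms composed with surjective closed immersions.
-/

set_option autoImplicit false

universe u

open AlgebraicGeometry CategoryTheory Limits MorphismProperty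

namespace ThickeningLib

variable {X Y Z : Scheme.{u}}

/-- A universal property passes from `f ≫ m` to `f` when `m` is a monomorphism. -/
theorem universally_of_comp_mono (P : MorphismProperty Scheme.{u}) (f : X ⟶ Y) (m : Y ⟶ Z)
    [Mono m] (h : universally P (f ≫ m)) : universally P f := by
  intro X' Y' i₁ i₂ f' H
  have H2 : IsPullback (𝟙 Y') i₂ (i₂ ≫ m) m := by
    refine ⟨⟨by simp⟩, ⟨PullbackCone.IsLimit.mk _ (fun s ↦ s.fst) (fun s ↦ by simp) ?_ ?_⟩⟩
    · intro s
      rw [← cancel_mono m, Category.assoc]
      exact s.condition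
    · intro s l h₁ _
      simpa using h₁
  have h3 := H.paste_horiz H2
  rw [Category.comp_id] at h3
  exact h _ _ _ h3

/-- Base change of `f ≫ g` seen on the base change of `g`. -/
theorem universally_of_surjective_comp (P : MorphismProperty Scheme.{u})
    (hP : ∀ ⦃A B C : Scheme.{u}⦄ (p : A ⟶ B) (q : B ⟶ C), Surjective p → P (p ≫ q) → P q)
    (f : X ⟶ Y) (g : Y ⟶ Z) [Surjective f] (h : universally P (f ≫ g)) :
    universally P g := by
  intro X' Y' i₁ i₂ f' H
  have h' := h _ _ _ ((IsPullback.of_hasPullback i₁ f).paste_horiz H)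
  exact hP _ _ (MorphismProperty.of_isPullback (P := @Surjective) (IsPullback.of_hasPullback i₁ f).flip ‹_›) h'

/-- A surjective closed immersion is universally open. -/
theorem universallyOpen_of_isClosedImmersion_surjective (i : X ⟶ Y) [IsClosedImmersion i]
    [Surjective i] : UniversallyOpen i := by
  rw [universallyOpen_iff]
  intro X' Y' i₁ i₂ f' H
  have h1 : IsClosedImmersion f' := MorphismProperty.of_isPullback H.flip inferInstance
  have h2 : Surjective f' := MorphismProperty.of_isPullback H.flip inferInstance
  exact (f'.isClosedEmbedding.isEmbedding.toHomeomorphOfSurjective h2.1).isOpenMap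

theorem universallyOpen_of_comp_surjective (f : X ⟶ Y) (g : Y ⟶ Z) [Surjective f]
    (h : UniversallyOpen (f ≫ g)) : UniversallyOpen g := by
  rw [universallyOpen_iff] at h ⊢
  refine universally_of_surjective_comp _ ?_ f g h
  intro A B C p q hp hpq
  exact IsOpenMap.of_comp p.continuous hp.1 hpq

theorem universallyOpen_of_comp_mono (f : X ⟶ Y) (m : Y ⟶ Z) [Mono m]
    (h : UniversallyOpen (f ≫ m)) : UniversallyOpen f := by
  rw [universallyOpen_iff] at h ⊢
  exact universally_of_comp_mono _ f m h

theorem universallyInjective_of_comp_mono (f : X ⟶ Y) (m : Y ⟶ Z) [Mono m]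
    (h : UniversallyInjective (f ≫ m)) : UniversallyInjective f := by
  rw [universallyInjective_iff] at h ⊢
  exact universally_of_comp_mono _ f m h

theorem universallyInjective_of_comp_surjective (f : X ⟶ Y) (g : Y ⟶ Z) [Surjective f]
    (h : UniversallyInjective (f ≫ g)) : UniversallyInjective g := by
  rw [universallyInjective_iff] at h ⊢
  refine universally_of_surjective_comp _ ?_ f g h
  intro A B C p q hp hpq y₁ y₂ e
  obtain ⟨x₁, rfl⟩ := hp.1 y₁
  obtain ⟨x₂, rfl⟩ := hp.1 y₂
  have := hpq (a₁ := x₁) (a₂ := x₂) (by simpa using e)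
  rw [this]

theorem universallyClosed_of_comp_mono (f : X ⟶ Y) (m : Y ⟶ Z) [Mono m]
    (h : UniversallyClosed (f ≫ m)) : UniversallyClosed f := by
  rw [universallyClosed_iff] at h ⊢
  exact universally_of_comp_mono _ f m h

theorem quasiCompact_of_comp_surjective (f : X ⟶ Y) (g : Y ⟶ Z) [Surjective f]
    (h : QuasiCompact (f ≫ g)) : QuasiCompact g := by
  refine ⟨fun U hU hU' ↦ ?_⟩
  have hc := h.isCompact_preimage U hU hU'
  have : g ⁻¹' U = f '' ((f ≫ g) ⁻¹' U) := by
    rw [Scheme.Hom.comp_base, TopCat.coe_comp, Set.preimage_comp,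
      Set.image_preimage_eq _ ‹Surjective f›.1]
  rw [this]
  exact hc.image f.continuous

theorem quasiSeparated_of_comp_surjective (f : X ⟶ Y) (g : Y ⟶ Z) [Surjective f]
    [QuasiCompact f] (h : QuasiSeparated (f ≫ g)) : QuasiSeparated g := by
  have hd : QuasiCompact (pullback.diagonal (f ≫ g)) := h.quasiCompact_diagonal
  let m : pullback (f ≫ g) (f ≫ g) ⟶ pullback g g :=
    pullback.map _ _ _ _ f f (𝟙 Z) (by simp) (by simp)
  have hm : QuasiCompact m :=
    MorphismProperty.pullbackMap (P := @QuasiCompact) inferInstance inferInstance rfl rfl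
  have hcomp : f ≫ pullback.diagonal g = pullback.diagonal (f ≫ g) ≫ m := by
    apply pullback.hom_ext
    · rw [Category.assoc, Category.assoc, pullback.diagonal_fst, Category.comp_id]
      erw [pullback.lift_fst]
      rw [← Category.assoc, pullback.diagonal_fst, Category.id_comp]
    · rw [Category.assoc, Category.assoc, pullback.diagonal_snd, Category.comp_id]
      erw [pullback.lift_snd]
      rw [← Category.assoc, pullback.diagonal_snd, Category.id_comp]
  have : QuasiCompact (f ≫ pullback.diagonal g) := by
    rw [hcomp]; infer_instance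
  exact ⟨quasiCompact_of_comp_surjective f _ this⟩

end ThickeningLib
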